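import Mathlib

/-!
# Brauer–Suzuki–Wall (S3282): pure group theory behind modules [F1d] and [F2b] (helper45)

`Q` a subgroup of odd order of a finite group with `C_G(y) = Q` for all `y ∈ Q ∖ 1`, `M = N_G(Q)`:
* `card_normalizer_div`: `|M| = |Q| e` with `e ∣ |Q| - 1` (free action of `M/Q` on `Q ∖ 1`);
* `inverts_of_fpf`: an involution of `M` without fixed points on `Q ∖ 1` inverts `Q`;
* `normalizer_split`: if all involutions of `M` invert `Q` and `u ∈ M` is one of them, then
  `M = Q C_M(u)`, `Q ∩ C_M(u) = 1` and `u` is the only involution of `C_M(u)`.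
-/

set_option autoImplicit false

namespace Cfsg.Agent.Lib.Helper45.BSW

variable {G : Type*} [Group G]

theorem sq_of_orderOf_two {u : G} (hu : orderOf u = 2) : u * u = 1 := by
  have := pow_orderOf_eq_one u
  rwa [hu, pow_two] at this

theorem inv_of_orderOf_two {u : G} (hu : orderOf u = 2) : u⁻¹ = u :=
  inv_eq_of_mul_eq_one_left (sq_of_orderOf_two hu)

theorem ne_one_of_orderOf_two' {u : G} (hu : orderOf u = 2) : u ≠ 1 := by
  rintro rfl
  simp at hu

theorem orderOf_two_of_sq {u : G} (h1 : u ≠ 1) (h2 : u * u = 1) : orderOf u = 2 := by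
  apply orderOf_eq_prime
  · rw [pow_two]; exact h2
  · exact h1

/-- The free action of `N(Q)/Q` on `Q ∖ 1`. -/
theorem card_normalizer_div [Finite G] {Q : Subgroup G}
    (hcent : ∀ y ∈ Q, y ≠ 1 → Subgroup.centralizer ({y} : Set G) = Q) :
    ∃ e : ℕ, Nat.card (Subgroup.normalizer (Q : Set G)) = Nat.card Q * e ∧
      e ∣ Nat.card Q - 1 := by
  classical
  have hQM : Q ≤ Subgroup.normalizer (Q : Set G) := Subgroup.le_normalizer
  obtain ⟨e, he⟩ := Subgroup.card_dvd_of_le hQM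
  refine ⟨e, he, ?_⟩
  have hQpos : 0 < Nat.card Q := Nat.card_pos
  -- the invariant subset `Q ∖ 1`
  let X : SubMulAction (Subgroup.normalizer (Q : Set G)) Q :=
    { carrier := {y | y ≠ 1}
      smul_mem' := by
        intro m y hy h1
        apply hy
        have : m⁻¹ • (m • y) = m⁻¹ • (1 : Q) := by rw [h1]
        rwa [inv_smul_smul, smul_one] at this }
  have hstab : ∀ y : X, MulAction.stabilizer (Subgroup.normalizer (Q : Set G)) y =
      Q.subgroupOf (Subgroup.normalizer (Q : Set G)) := by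
    intro y
    ext m
    rw [MulAction.mem_stabilizer_iff, Subgroup.mem_subgroupOf]
    have hy1 : ((y : Q) : G) ≠ 1 := by
      intro h
      exact y.2 (Subtype.ext h)
    have hc := hcent (y : Q) (y : Q).2 hy1
    have hiff : ∀ g : G, g ∈ Q ↔ g * ((y : Q) : G) = ((y : Q) : G) * g := fun g => by
      rw [← Subgroup.mem_centralizer_singleton_iff, hc]
    rw [hiff]
    constructor
    · intro h
      have h1 : ((m • y : X) : Q) = (y : Q) := congrArg Subtype.val h
      have h2 : (m : G) * ((y : Q) : G) * (m : G)⁻¹ = ((y : Q) : G) := congrArg Subtype.val h1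
      calc (m : G) * ((y : Q) : G) = ((m : G) * ((y : Q) : G) * (m : G)⁻¹) * (m : G) := by group
        _ = ((y : Q) : G) * (m : G) := by rw [h2]
    · intro h
      apply Subtype.ext
      apply Subtype.ext
      show (m : G) * ((y : Q) : G) * (m : G)⁻¹ = ((y : Q) : G)
      rw [h]; group
  letI : Fintype G := Fintype.ofFinite G
  have hcs : ∀ y : X, Nat.card (MulAction.stabilizer (Subgroup.normalizer (Q : Set G)) y) =
      Nat.card Q := by
    intro y
    rw [hstab y]
    exact Nat.card_congr (Subgroup.subgroupOfEquivOfLe hQM).toEquiv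
  have hformula := MulAction.card_eq_sum_card_group_div_card_stabilizer
    (Subgroup.normalizer (Q : Set G)) X
  have hXcard : Fintype.card X = Nat.card Q - 1 := by
    have h1 : Fintype.card X = Fintype.card {y : Q // y ≠ 1} := by
      apply Fintype.card_congr
      exact Equiv.refl _
    rw [h1, Fintype.card_subtype_compl, Fintype.card_subtype_eq, Nat.card_eq_fintype_card]
  rw [hXcard] at hformula
  have hterm : ∀ ω : Quotient (MulAction.orbitRel (Subgroup.normalizer (Q : Set G)) X),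
      Fintype.card (Subgroup.normalizer (Q : Set G)) /
        Fintype.card (MulAction.stabilizer (Subgroup.normalizer (Q : Set G)) ω.out) = e := by
    intro ω
    rw [← Nat.card_eq_fintype_card, ← Nat.card_eq_fintype_card, hcs, he]
    exact Nat.mul_div_cancel_left e hQpos
  rw [Finset.sum_congr rfl (fun ω _ => hterm ω)] at hformula
  rw [hformula]
  simp

/-- An involution normalizing `Q` without nontrivial fixed points on `Q` inverts `Q`. -/
theorem inverts_of_fpf [Finite G] {Q : Subgroup G} {v : G}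
    (hv : v ∈ Subgroup.normalizer (Q : Set G)) (hv2 : v * v = 1)
    (hfpf : ∀ y ∈ Q, v * y = y * v → y = 1) : ∀ y ∈ Q, v * y * v⁻¹ = y⁻¹ := by
  have hmem : ∀ y ∈ Q, v * y * v⁻¹ ∈ Q := fun y hy => (hv y).mp hy
  have hvinv : v⁻¹ = v := inv_eq_of_mul_eq_one_left hv2
  let φ : Q →* Q :=
    { toFun := fun y => ⟨v * y * v⁻¹, hmem y y.2⟩
      map_one' := by ext; simp
      map_mul' := by intro a b; ext; simp [mul_assoc] }
  have hφ : MonoidHom.FixedPointFree φ := by
    intro y hy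
    have h1 : v * (y : G) * v⁻¹ = (y : G) := congrArg Subtype.val hy
    have h2 : (y : G) = 1 := by
      apply hfpf y y.2
      calc v * (y : G) = (v * (y : G) * v⁻¹) * v := by group
        _ = (y : G) * v := by rw [h1]
    exact Subtype.ext h2
  have hinvol : Function.Involutive φ := by
    intro y
    apply Subtype.ext
    show v * (v * (y : G) * v⁻¹) * v⁻¹ = (y : G)
    calc v * (v * (y : G) * v⁻¹) * v⁻¹ = (v * v) * (y : G) * (v * v)⁻¹ := by group
      _ = (y : G) := by rw [hv2]; simp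
  have key := hφ.coe_eq_inv_of_involutive hinvol
  intro y hy
  have := congrFun key ⟨y, hy⟩
  exact congrArg Subtype.val this

/-- Squaring is onto in a group of odd order. -/
theorem exists_sq_eq_of_odd {Q : Subgroup G} [Finite Q] (hodd : Odd (Nat.card Q)) {y : G}
    (hy : y ∈ Q) : ∃ z ∈ Q, z * z = y := by
  obtain ⟨r, hr⟩ := hodd
  refine ⟨y ^ (r + 1), Q.pow_mem hy _, ?_⟩
  have h1 : y ^ Nat.card Q = 1 := by
    have := pow_card_eq_one' (G := Q) (x := ⟨y, hy⟩)
    exact congrArg Subtype.val this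
  calc y ^ (r + 1) * y ^ (r + 1) = y ^ (2 * r + 1) * y := by
        rw [← pow_add, ← pow_succ]; congr 1; ring
    _ = y := by rw [← hr, h1, one_mul]

/-- No element of order two in a subgroup of odd order. -/
theorem eq_one_of_sq_of_odd {Q : Subgroup G} [Finite Q] (hodd : Odd (Nat.card Q)) {y : G}
    (hy : y ∈ Q) (h2 : y * y = 1) : y = 1 := by
  obtain ⟨r, hr⟩ := hodd
  have h1 : y ^ Nat.card Q = 1 := by
    have := pow_card_eq_one' (G := Q) (x := ⟨y, hy⟩)
    exact congrArg Subtype.val this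
  rw [hr, pow_succ, pow_mul, pow_two, h2, one_pow, one_mul] at h1
  exact h1

/-- The structure of `M = N(Q)`: `M = Q C_M(u)`, `Q ∩ C_M(u) = 1`, `u` the only involution of
`C_M(u)`. -/
theorem normalizer_split [Finite G] {Q : Subgroup G} (hodd : Odd (Nat.card Q)) (hQ1 : Q ≠ ⊥)
    (hcent : ∀ y ∈ Q, y ≠ 1 → Subgroup.centralizer ({y} : Set G) = Q)
    (hinv : ∀ v ∈ Subgroup.normalizer (Q : Set G), orderOf v = 2 → ∀ y ∈ Q, v * y * v⁻¹ = y⁻¹)
    {u : G} (hu : u ∈ Subgroup.normalizer (Q : Set G)) (hu2 : orderOf u = 2) :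
    Q ⊓ (Subgroup.normalizer (Q : Set G) ⊓ Subgroup.centralizer ({u} : Set G)) = ⊥ ∧
    (∀ m ∈ Subgroup.normalizer (Q : Set G), ∃ y ∈ Q,
      ∃ c ∈ Subgroup.normalizer (Q : Set G) ⊓ Subgroup.centralizer ({u} : Set G), m = y * c) ∧
    (∀ v ∈ Subgroup.normalizer (Q : Set G) ⊓ Subgroup.centralizer ({u} : Set G),
      orderOf v = 2 → v = u) := by
  have huu : u * u = 1 := sq_of_orderOf_two hu2
  have huinv : u⁻¹ = u := inv_of_orderOf_two hu2
  have hQM : Q ≤ Subgroup.normalizer (Q : Set G) := Subgroup.le_normalizer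
  obtain ⟨y₀, hy₀, hy₀1⟩ : ∃ y₀ ∈ Q, y₀ ≠ 1 := by
    obtain ⟨a, ha⟩ := Subgroup.ne_bot_iff_exists_ne_one.mp hQ1
    exact ⟨(a : G), a.2, fun h => ha (Subtype.ext h)⟩
  -- the intersection is trivial
  have hint : Q ⊓ (Subgroup.normalizer (Q : Set G) ⊓ Subgroup.centralizer ({u} : Set G)) = ⊥ := by
    rw [eq_bot_iff]
    intro y hy
    rw [Subgroup.mem_bot]
    have hyQ : y ∈ Q := hy.1
    have hyc : y ∈ Subgroup.centralizer ({u} : Set G) := hy.2.2
    rw [Subgroup.mem_centralizer_singleton_iff] at hyc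
    -- hyc : y * u = u * y
    have h1 := hinv u hu hu2 y hyQ
    have h2 : u * y * u⁻¹ = y := by rw [← hyc]; group
    have h3 : y * y = 1 := by
      have : y = y⁻¹ := h2.symm.trans h1
      calc y * y = y * y⁻¹ := by rw [← this]
        _ = 1 := mul_inv_cancel y
    exact eq_one_of_sq_of_odd hodd hyQ h3
  -- products of two involutions of `M` lie in `Q`
  have hprod : ∀ v ∈ Subgroup.normalizer (Q : Set G), orderOf v = 2 → u * v ∈ Q := by
    intro v hv hv2
    have h1 := hinv u hu hu2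
    have h2 := hinv v hv hv2
    have h3 : u * v ∈ Subgroup.centralizer ({y₀} : Set G) := by
      rw [Subgroup.mem_centralizer_singleton_iff]
      have e1 : v * y₀ * v⁻¹ = y₀⁻¹ := h2 y₀ hy₀
      have e2 : u * y₀⁻¹ * u⁻¹ = y₀ := by
        have := h1 y₀⁻¹ (Q.inv_mem hy₀)
        rw [this, inv_inv]
      calc u * v * y₀ = u * (v * y₀ * v⁻¹) * u⁻¹ * (u * v) := by group
        _ = y₀ * (u * v) := by rw [e1, e2]
    rwa [hcent y₀ hy₀ hy₀1] at h3
  refine ⟨hint, ?_, ?_⟩
  · intro m hm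
    -- `v = m u m⁻¹` is an involution of `M`
    have hvM : m * u * m⁻¹ ∈ Subgroup.normalizer (Q : Set G) :=
      Subgroup.mul_mem _ (Subgroup.mul_mem _ hm hu) (Subgroup.inv_mem _ hm)
    have hv2 : orderOf (m * u * m⁻¹) = 2 := by
      have : m * u * m⁻¹ = MulAut.conj m u := by simp [MulAut.conj_apply]
      rw [this, MulEquiv.orderOf_eq, hu2]
    have h1 := hprod _ hvM hv2
    -- `u v = y₁ ∈ Q`; pick `z` with `z z = y₁⁻¹`
    obtain ⟨z, hzQ, hz⟩ := exists_sq_eq_of_odd hodd (Q.inv_mem h1)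
    have hzinv : u * z * u⁻¹ = z⁻¹ := hinv u hu hu2 z hzQ
    refine ⟨z, hzQ, z⁻¹ * m, ⟨Subgroup.mul_mem _ (Subgroup.inv_mem _ (hQM hzQ)) hm, ?_⟩, by group⟩
    show z⁻¹ * m ∈ Subgroup.centralizer ({u} : Set G)
    rw [Subgroup.mem_centralizer_singleton_iff]
    -- need `(z⁻¹ m) u = u (z⁻¹ m)`, i.e. `m u m⁻¹ = z u z⁻¹ = u z⁻¹ z⁻¹ = u (u v)`
    have e1 : m * u * m⁻¹ = z * u * z⁻¹ := by
      have e2 : z * u * z⁻¹ = u * (z * z)⁻¹ := by
        have : z * u = u * z⁻¹ := by
          calc z * u = u * (u⁻¹ * z * u) := by group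
            _ = u * (u * z * u⁻¹) := by rw [huinv]
            _ = u * z⁻¹ := by rw [hzinv]
        rw [this]; group
      rw [e2, hz, inv_inv, ← mul_assoc, huu, one_mul]
    calc z⁻¹ * m * u = z⁻¹ * (m * u * m⁻¹) * m := by group
      _ = z⁻¹ * (z * u * z⁻¹) * m := by rw [e1]
      _ = u * (z⁻¹ * m) := by group
  · intro v hv hv2
    have h1 : u * v ∈ Q := hprod v hv.1 hv2
    have h2 : u * v ∈ Subgroup.normalizer (Q : Set G) ⊓ Subgroup.centralizer ({u} : Set G) := by
      refine Subgroup.mul_mem _ ⟨hu, ?_⟩ hv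
      show u ∈ Subgroup.centralizer ({u} : Set G)
      rw [Subgroup.mem_centralizer_singleton_iff]
    have h3 : u * v ∈ Q ⊓ (Subgroup.normalizer (Q : Set G) ⊓ Subgroup.centralizer ({u} : Set G)) :=
      ⟨h1, h2⟩
    rw [hint, Subgroup.mem_bot] at h3
    calc v = u⁻¹ * (u * v) := by group
      _ = u := by rw [h3, mul_one, huinv]

/-- `|M| = |Q| |C|` when `M = Q C`, `Q ∩ C = 1`, `Q, C ≤ M`. -/
theorem card_eq_mul_of_split [Finite G] {M Q C : Subgroup G} (hQM : Q ≤ M) (hCM : C ≤ M)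
    (hint : Q ⊓ C = ⊥) (hsurj : ∀ m ∈ M, ∃ y ∈ Q, ∃ c ∈ C, m = y * c) :
    Nat.card M = Nat.card Q * Nat.card C := by
  rw [← Nat.card_prod]
  symm
  apply Nat.card_congr
  refine Equiv.ofBijective
    (fun p : Q × C => (⟨(p.1 : G) * (p.2 : G), M.mul_mem (hQM p.1.2) (hCM p.2.2)⟩ : M)) ⟨?_, ?_⟩
  · rintro ⟨y, c⟩ ⟨y', c'⟩ hEq
    have h1 : (y : G) * (c : G) = (y' : G) * (c' : G) := congrArg Subtype.val hEq
    have h2 : (y' : G)⁻¹ * (y : G) = (c' : G) * (c : G)⁻¹ := by
      calc (y' : G)⁻¹ * (y : G) = (y' : G)⁻¹ * ((y : G) * (c : G)) * (c : G)⁻¹ := by group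
        _ = (c' : G) * (c : G)⁻¹ := by rw [h1]; group
    have h3 : (y' : G)⁻¹ * (y : G) ∈ Q ⊓ C :=
      ⟨Q.mul_mem (Q.inv_mem y'.2) y.2, by rw [h2]; exact C.mul_mem c'.2 (C.inv_mem c.2)⟩
    rw [hint, Subgroup.mem_bot] at h3
    have h4 : (y : G) = (y' : G) := by
      calc (y : G) = (y' : G) * ((y' : G)⁻¹ * (y : G)) := by group
        _ = (y' : G) := by rw [h3, mul_one]
    have h5 : (c : G) = (c' : G) := by
      rw [h4] at h1
      exact mul_left_cancel h1
    exact Prod.ext (Subtype.ext h4) (Subtype.ext h5)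
  · rintro ⟨m, hm⟩
    obtain ⟨y, hy, c, hc, rfl⟩ := hsurj m hm
    exact ⟨(⟨y, hy⟩, ⟨c, hc⟩), rfl⟩

end Cfsg.Agent.Lib.Helper45.BSW
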