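import Mathlib
import Cfsg.Agent.Lib.Helper30.BSW.Defs
import Cfsg.Agent.Lib.Helper45.BSW.Core
import Cfsg.Agent.Lib.Helper84.BSWOuter
import Cfsg.Agent.Lib.Helper84.BSWReal

/-!
# Brauer–Suzuki–Wall (S3282), modules [F1d] `pos_normalizer` and [F2b] `neg_D` (helper45)
-/

set_option autoImplicit false

namespace Cfsg.Agent.Lib.Helper45.BSW

open Cfsg.Agent.Lib.Helper30.BSW Cfsg.Agent.Lib.Helper84.BSWOuter Cfsg.Agent.Lib.Helper84.BSWReal

variable {G : Type*} [Group G] {t s : G} {K : Subgroup G}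

/-- A subgroup centralizing the involution `u` and having `u` as its only involution is conjugate
into `K`. -/
theorem exists_conj_into_K (h : Hyp t s K) (b : Basic t s K) {C : Subgroup G} {u : G}
    (hu2 : orderOf u = 2) (hCu : C ≤ Subgroup.centralizer ({u} : Set G))
    (huniq : ∀ v ∈ C, orderOf v = 2 → v = u) :
    ∃ a : G, a * u * a⁻¹ = t ∧ ∀ c ∈ C, a * c * a⁻¹ ∈ K := by
  obtain ⟨a, ha⟩ := isConj_iff.mp (h.hconj u t hu2 h.ht)
  refine ⟨a, ha, ?_⟩
  intro c hc
  have hcu : c * u = u * c := Subgroup.mem_centralizer_singleton_iff.mp (hCu hc)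
  have hH : a * c * a⁻¹ ∈ Subgroup.centralizer ({t} : Set G) := by
    rw [Subgroup.mem_centralizer_singleton_iff, ← ha]
    calc a * c * a⁻¹ * (a * u * a⁻¹) = a * (c * u) * a⁻¹ := by group
      _ = a * (u * c) * a⁻¹ := by rw [hcu]
      _ = a * u * a⁻¹ * (a * c * a⁻¹) := by group
  rcases (b.mem_H _).mp hH with hK | ⟨x, hx, hxs⟩
  · exact hK
  · exfalso
    have h2 : orderOf (a * c * a⁻¹) = 2 := by rw [hxs]; exact b.invol_coset x hx
    have h3 : orderOf c = 2 := by
      have : a * c * a⁻¹ = MulAut.conj a c := by simp [MulAut.conj_apply]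
      rw [this, MulEquiv.orderOf_eq] at h2
      exact h2
    have h4 : c = u := huniq c hc h3
    rw [h4, ha] at hxs
    -- `t = x * s`, so `s ∈ K`
    apply h.hsK
    have : s = x⁻¹ * t := by rw [hxs]; group
    rw [this]
    exact K.mul_mem (K.inv_mem hx) h.htK

theorem one_not_outer : ¬ IsOuter K (1 : G) := by
  intro h
  apply h 1
  simp

/-- Every involution of `N(Q)` inverts `Q`. -/
theorem invol_inverts [Finite G] (h : Hyp t s K) (b : Basic t s K) {Q : Subgroup G}
    (hQ : ∀ y ∈ Q, y ≠ 1 → IsOuter K y) :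
    ∀ v ∈ Subgroup.normalizer (Q : Set G), orderOf v = 2 → ∀ y ∈ Q, v * y * v⁻¹ = y⁻¹ := by
  intro v hv hv2
  apply inverts_of_fpf hv (sq_of_orderOf_two hv2)
  intro y hy hvy
  by_contra hy1
  exact outer_not_commute_invol h b (hQ y hy hy1) hv2 hvy

/-- **[F1d]** -/
theorem pos_normalizer [Finite G] (h : Hyp t s K) (b : Basic t s K) (Q : Subgroup G)
    (hQcard : Nat.card Q = 2 * Nat.card K + 1)
    (hQ : ∀ y ∈ Q, y ≠ 1 → IsOuter K y ∧ Subgroup.centralizer ({y} : Set G) = Q)
    (hN : (2 * Nat.card K + 1) * Nat.card K ≤ Nat.card (Subgroup.normalizer (Q : Set G))) :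
    ∃ a : G, Subgroup.normalizer ((Q.map (MulAut.conj a).toMonoidHom : Subgroup G) : Set G) =
      Q.map (MulAut.conj a).toMonoidHom ⊔ K := by
  have hkpos : 0 < Nat.card K := Nat.card_pos
  obtain ⟨k2, hk2⟩ := b.even_K
  have hodd : Odd (Nat.card Q) := ⟨Nat.card K, by rw [hQcard]⟩
  have hQ1 : Q ≠ ⊥ := by
    rintro rfl
    rw [Subgroup.card_bot] at hQcard
    omega
  have hcent : ∀ y ∈ Q, y ≠ 1 → Subgroup.centralizer ({y} : Set G) = Q :=
    fun y hy h1 => (hQ y hy h1).2
  have hinv := invol_inverts h b (fun y hy h1 => (hQ y hy h1).1)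
  obtain ⟨e, he, hediv⟩ := card_normalizer_div hcent
  -- `e ∣ 2k`, `k ≤ e`, hence `e` is even
  have he2 : Even e := by
    rw [hQcard] at hediv he
    rw [he] at hN
    have h1 : Nat.card K ≤ e := Nat.le_of_mul_le_mul_left hN (by omega)
    obtain ⟨c, hc⟩ := hediv
    have hc' : 2 * Nat.card K = e * c := by omega
    have hc3 : c < 3 := by
      by_contra hcon
      replace hcon : 3 ≤ c := Nat.le_of_not_lt hcon
      have : e * 3 ≤ e * c := Nat.mul_le_mul_left e hcon
      omega
    interval_cases c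
    · omega
    · exact ⟨Nat.card K, by omega⟩
    · exact ⟨k2, by omega⟩
  -- an involution of `M`
  obtain ⟨u', hu'⟩ := exists_prime_orderOf_dvd_card' (G := Subgroup.normalizer (Q : Set G)) 2
    (by rw [he]; exact Dvd.dvd.mul_left (even_iff_two_dvd.mp he2) _)
  have hu2 : orderOf (u' : G) = 2 := by rw [Subgroup.orderOf_coe]; exact hu'
  have hu : (u' : G) ∈ Subgroup.normalizer (Q : Set G) := u'.2
  obtain ⟨hint, hsurj, huniq⟩ := normalizer_split hodd hQ1 hcent hinv hu hu2
  obtain ⟨a, hat, haK⟩ := exists_conj_into_K h b hu2 inf_le_right huniq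
  have hQM : Q ≤ Subgroup.normalizer (Q : Set G) := Subgroup.le_normalizer
  have hcardM := card_eq_mul_of_split hQM inf_le_left hint hsurj
  -- `|C| = k`
  have hCle : Nat.card ↥(Subgroup.normalizer (Q : Set G) ⊓ Subgroup.centralizer ({(u' : G)} : Set G))
      ≤ Nat.card K := by
    apply Nat.card_le_card_of_injective
      (fun c : ↥(Subgroup.normalizer (Q : Set G) ⊓ Subgroup.centralizer ({(u' : G)} : Set G)) =>
        (⟨a * (c : G) * a⁻¹, haK c c.2⟩ : K))
    intro c c' hcc
    have : a * (c : G) * a⁻¹ = a * (c' : G) * a⁻¹ := congrArg Subtype.val hcc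
    apply Subtype.ext
    exact mul_left_cancel (mul_right_cancel this)
  have hCge : Nat.card K ≤
      Nat.card ↥(Subgroup.normalizer (Q : Set G) ⊓ Subgroup.centralizer ({(u' : G)} : Set G)) := by
    rw [hcardM, hQcard] at hN
    exact Nat.le_of_mul_le_mul_left hN (by omega)
  have hCeq := le_antisymm hCle hCge
  -- every element of `K` is `a c a⁻¹`
  have hKsurj : ∀ x ∈ K, ∃ c ∈ Subgroup.normalizer (Q : Set G) ⊓
      Subgroup.centralizer ({(u' : G)} : Set G), a * c * a⁻¹ = x := by
    have hinj : Function.Injective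
      (fun c : ↥(Subgroup.normalizer (Q : Set G) ⊓ Subgroup.centralizer ({(u' : G)} : Set G)) =>
        (⟨a * (c : G) * a⁻¹, haK c c.2⟩ : K)) := by
      intro c c' hcc
      have : a * (c : G) * a⁻¹ = a * (c' : G) * a⁻¹ := congrArg Subtype.val hcc
      apply Subtype.ext
      exact mul_left_cancel (mul_right_cancel this)
    have hbij := (Nat.bijective_iff_injective_and_card _).mpr ⟨hinj, hCeq⟩
    intro x hx
    obtain ⟨c, hc⟩ := hbij.2 ⟨x, hx⟩
    exact ⟨(c : G), c.2, congrArg Subtype.val hc⟩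
  -- the normalizer of the conjugate
  refine ⟨a, ?_⟩
  rw [← Subgroup.map_equiv_normalizer_eq]
  apply le_antisymm
  · rintro g ⟨m, hm, rfl⟩
    obtain ⟨y, hy, c, hc, rfl⟩ := hsurj m hm
    have : (MulAut.conj a).toMonoidHom (y * c) = (a * y * a⁻¹) * (a * c * a⁻¹) := by
      simp [MulAut.conj_apply]
    rw [this]
    apply Subgroup.mul_mem
    · apply Subgroup.mem_sup_left
      exact ⟨y, hy, by simp [MulAut.conj_apply]⟩
    · exact Subgroup.mem_sup_right (haK c hc)
  · apply sup_le
    · exact Subgroup.map_mono hQM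
    · intro x hx
      obtain ⟨c, hc, rfl⟩ := hKsurj x hx
      exact ⟨c, hc.1, by simp [MulAut.conj_apply]⟩

/-- **[F2b]** -/
theorem neg_D [Finite G] (h : Hyp t s K) (b : Basic t s K) {x₁ u : G} (hx : IsOuter K x₁)
    (hu : orderOf u = 2) (hux : u * x₁ * u⁻¹ = x₁⁻¹)
    (hc : Nat.card (Subgroup.centralizer ({x₁} : Set G)) + 1 = Nat.card K) :
    Subgroup.normalizer ((Subgroup.centralizer ({x₁} : Set G) : Subgroup G) : Set G) =
        Subgroup.centralizer ({x₁} : Set G) ⊔ Subgroup.zpowers u ∧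
      u ∉ Subgroup.centralizer ({x₁} : Set G) ∧
      ∀ X : Subgroup G, X ≤ Subgroup.centralizer ({x₁} : Set G) → X ≠ ⊥ →
        Subgroup.normalizer (X : Set G) =
          Subgroup.normalizer ((Subgroup.centralizer ({x₁} : Set G) : Subgroup G) : Set G) := by
  obtain ⟨hinvD, hcentD, -⟩ := real_outer h b hx hu hux
  set D : Subgroup G := Subgroup.centralizer ({x₁} : Set G) with hD
  have huu : u * u = 1 := sq_of_orderOf_two hu
  have huinv : u⁻¹ = u := inv_of_orderOf_two hu
  obtain ⟨k2, hk2⟩ := b.even_K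
  have hDpos : 0 < Nat.card D := Nat.card_pos
  have hodd : Odd (Nat.card D) := ⟨k2 - 1, by omega⟩
  have hx1 : x₁ ≠ 1 := by
    rintro rfl
    exact one_not_outer hx
  have hx₁D : x₁ ∈ D := by
    rw [hD, Subgroup.mem_centralizer_singleton_iff]
  have hD1 : D ≠ ⊥ := by
    intro hbot
    rw [hbot, Subgroup.mem_bot] at hx₁D
    exact hx1 hx₁D
  have hQout : ∀ y ∈ D, y ≠ 1 → IsOuter K y :=
    fun y hy h1 => outer_of_mem_centralizer h b hx hy h1
  have hcomm : ∀ a ∈ D, ∀ c ∈ D, a * c = c * a := by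
    intro a ha c hcD
    by_cases ha1 : a = 1
    · rw [ha1, one_mul, mul_one]
    · have : c ∈ Subgroup.centralizer ({a} : Set G) := by rw [hcentD a ha ha1]; exact hcD
      exact (Subgroup.mem_centralizer_singleton_iff.mp this).symm
  -- conjugation by `u` maps a subgroup `X ≤ D` to itself
  have huX : ∀ X : Subgroup G, X ≤ D → u ∈ Subgroup.normalizer (X : Set G) := by
    intro X hXD c
    constructor
    · intro hcX
      show u * c * u⁻¹ ∈ X
      rw [hinvD c (hXD hcX)]
      exact X.inv_mem hcX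
    · intro hcX
      have hcX' : u * c * u⁻¹ ∈ X := hcX
      have h1 := hinvD _ (hXD hcX')
      have h2 : u * (u * c * u⁻¹) * u⁻¹ = c := by
        calc u * (u * c * u⁻¹) * u⁻¹ = (u * u) * c * (u * u)⁻¹ := by group
          _ = c := by rw [huu]; simp
      rw [h2] at h1
      show c ∈ X
      rw [h1]
      exact X.inv_mem hcX'
  have huM : u ∈ Subgroup.normalizer (D : Set G) := huX D le_rfl
  have hinv := invol_inverts h b hQout
  obtain ⟨hint, hsurj, huniq⟩ := normalizer_split hodd hD1 hcentD hinv huM hu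
  obtain ⟨a, hat, haK⟩ := exists_conj_into_K h b hu inf_le_right huniq
  have hDM : D ≤ Subgroup.normalizer (D : Set G) := Subgroup.le_normalizer
  have hcardM := card_eq_mul_of_split hDM inf_le_left hint hsurj
  obtain ⟨e, he, hediv⟩ := card_normalizer_div hcentD
  set C : Subgroup G := Subgroup.normalizer (D : Set G) ⊓ Subgroup.centralizer ({u} : Set G)
    with hC
  have heC : e = Nat.card C := by
    rw [hcardM] at he
    exact (Nat.eq_of_mul_eq_mul_left hDpos he).symm
  -- `|C| ∣ k`
  have hCk : Nat.card C ∣ Nat.card K := by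
    have h1 : C.map (MulAut.conj a).toMonoidHom ≤ K := by
      rintro g ⟨c, hcC, rfl⟩
      have := haK c hcC
      simpa [MulAut.conj_apply] using this
    have h2 := Subgroup.card_dvd_of_le h1
    rwa [Subgroup.card_map_of_injective (MulAut.conj a).injective] at h2
  have huC : u ∈ C := by
    refine ⟨huM, ?_⟩
    show u ∈ Subgroup.centralizer ({u} : Set G)
    rw [Subgroup.mem_centralizer_singleton_iff]
  have h2C : 2 ∣ Nat.card C := by
    have := orderOf_dvd_natCard (⟨u, huC⟩ : C)
    rwa [← Subgroup.orderOf_coe, hu] at this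
  have hC2 : Nat.card C = 2 := by
    rw [← heC] at hCk h2C
    rw [← heC]
    have h3 : e ∣ 2 := by
      have h4 : e ∣ Nat.card K - (Nat.card D - 1) := Nat.dvd_sub hCk hediv
      have h5 : Nat.card K - (Nat.card D - 1) = 2 := by omega
      rwa [h5] at h4
    exact Nat.dvd_antisymm h3 h2C
  have hCz : Subgroup.zpowers u = C := by
    apply Subgroup.eq_of_le_of_card_ge
    · rw [Subgroup.zpowers_le]; exact huC
    · rw [hC2, Nat.card_zpowers, hu]
  have hM : Subgroup.normalizer (D : Set G) = D ⊔ Subgroup.zpowers u := by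
    apply le_antisymm
    · intro m hm
      obtain ⟨y, hy, c, hcC, rfl⟩ := hsurj m hm
      exact Subgroup.mul_mem _ (Subgroup.mem_sup_left hy)
        (Subgroup.mem_sup_right (by rw [hCz]; exact hcC))
    · apply sup_le hDM
      rw [Subgroup.zpowers_le]; exact huM
  refine ⟨hM, ?_, ?_⟩
  · intro huD
    rw [hD, Subgroup.mem_centralizer_singleton_iff] at huD
    exact outer_not_commute_invol h b hx hu huD
  · intro X hXD hX1
    apply le_antisymm
    · intro g hg
      obtain ⟨y, hyX, hy1⟩ : ∃ y ∈ X, y ≠ 1 := by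
        obtain ⟨y, hy⟩ := Subgroup.ne_bot_iff_exists_ne_one.mp hX1
        exact ⟨(y : G), y.2, fun hh => hy (Subtype.ext hh)⟩
      have hgy : g * y * g⁻¹ ∈ X := (hg y).mp hyX
      have hgy1 : g * y * g⁻¹ ≠ 1 := by
        intro hh
        apply hy1
        have : y = g⁻¹ * (g * y * g⁻¹) * g := by group
        rw [this, hh]; group
      have hc1 := hcentD y (hXD hyX) hy1
      have hc2 := hcentD _ (hXD hgy) hgy1
      intro d
      show d ∈ D ↔ g * d * g⁻¹ ∈ D
      have e1 : d ∈ D ↔ d * y = y * d := by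
        rw [← hc1, Subgroup.mem_centralizer_singleton_iff]
      have e2 : g * d * g⁻¹ ∈ D ↔ g * d * g⁻¹ * (g * y * g⁻¹) = g * y * g⁻¹ * (g * d * g⁻¹) := by
        rw [← hc2, Subgroup.mem_centralizer_singleton_iff]
      rw [e1, e2]
      constructor
      · intro hdy
        calc g * d * g⁻¹ * (g * y * g⁻¹) = g * (d * y) * g⁻¹ := by group
          _ = g * (y * d) * g⁻¹ := by rw [hdy]
          _ = g * y * g⁻¹ * (g * d * g⁻¹) := by group
      · intro hdy
        calc d * y = g⁻¹ * (g * d * g⁻¹ * (g * y * g⁻¹)) * g := by group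
          _ = g⁻¹ * (g * y * g⁻¹ * (g * d * g⁻¹)) * g := by rw [hdy]
          _ = y * d := by group
    · rw [hM]
      apply sup_le
      · intro d hd c
        have hdc : ∀ c ∈ X, d * c * d⁻¹ = c := by
          intro c hcX
          rw [hcomm d hd c (hXD hcX)]; group
        constructor
        · intro hcX
          show d * c * d⁻¹ ∈ X
          rw [hdc c hcX]; exact hcX
        · intro hcX
          have hcX' : d * c * d⁻¹ ∈ X := hcX
          have hcD : c ∈ D := by
            have : c = d⁻¹ * (d * c * d⁻¹) * d := by group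
            rw [this]
            exact D.mul_mem (D.mul_mem (D.inv_mem hd) (hXD hcX')) hd
          have : d * c * d⁻¹ = c := by rw [hcomm d hd c hcD]; group
          show c ∈ X
          rw [← this]; exact hcX'
      · rw [Subgroup.zpowers_le]
        exact huX X hXD

end Cfsg.Agent.Lib.Helper45.BSW
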